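import Cfsg.Agent.H944.TS.Iface
import Cfsg.Agent.S2563
import Cfsg.Agent.S5742
import Cfsg.Agent.S5743
import Cfsg.Agent.S5744
import Cfsg.Agent.UGT.U2.Rec.Congr

/-!
# Subgroups of `²E₆(2)`: tasks A1 and B1 of S5741 (helper951)
-/

set_option autoImplicit false

namespace Cfsg.Agent.H951.TS.A1

open Cfsg Cfsg.Lie Subgroup Cfsg.Agent.OrdDiv Cfsg.Agent.H944.TS

universe u

/-- an injective homomorphism from `Sym m`, `m ≥ 5`, restricts to `Alt m → commutator` -/
theorem exists_alt {m : ℕ} (hm : 5 ≤ m) {Y : Type*} [Group Y] (f : Equiv.Perm (Fin m) →* Y)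
    (hf : Function.Injective f) : ∃ g : ↥(alternatingGroup (Fin m)) →* ↥(commutator Y), Function.Injective g ∧
      ∀ x, ((g x : ↥(commutator Y)) : Y) = f x := by
  have h1 : alternatingGroup (Fin m) = commutator (Equiv.Perm (Fin m)) :=
    (alternatingGroup.commutator_perm_eq (by rwa [Nat.card_fin])).symm
  have h2 : ∀ x : ↥(alternatingGroup (Fin m)), f x ∈ commutator Y := by
    intro x
    have h3 : (x : Equiv.Perm (Fin m)) ∈ commutator (Equiv.Perm (Fin m)) := by rw [← h1]; exact x.2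
    have h4 : (commutator (Equiv.Perm (Fin m))).map f ≤ commutator Y := by
      rw [commutator_def, commutator_def, map_commutator]
      exact Subgroup.commutator_mono le_top le_top
    exact h4 ⟨_, h3, rfl⟩
  refine ⟨{ toFun := fun x => ⟨f x, h2 x⟩, map_one' := Subtype.ext (map_one f)
            map_mul' := fun a b => Subtype.ext (map_mul f _ _) }, ?_, fun x => rfl⟩
  intro a b hab
  exact Subtype.ext (hf (congrArg Subtype.val hab))

/-- `Alt m ≤ Alt n` -/
theorem alt_alt {m n : ℕ} (hm : 5 ≤ m) (h : m ≤ n) : Sub.{u} (.alt n) (.alt m) := by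
  rintro X _ ⟨e⟩
  obtain ⟨g, hg, -⟩ := exists_alt hm (Equiv.Perm.viaEmbeddingHom (Fin.castLEEmb h)) (Equiv.Perm.viaEmbeddingHom_injective _)
  have h1 : commutator (Equiv.Perm (Fin n)) = alternatingGroup (Fin n) :=
    alternatingGroup.commutator_perm_eq (by rw [Nat.card_fin]; omega)
  let f : ↥(alternatingGroup (Fin m)) →* X := e.symm.toMonoidHom.comp ((MulEquiv.subgroupCongr h1).toMonoidHom.comp g)
  have hf : Function.Injective f := e.symm.injective.comp ((MulEquiv.subgroupCongr h1).injective.comp hg)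
  exact ⟨f.range, ⟨(MonoidHom.ofInjective hf).symm⟩⟩

/-- `quadFormMinus` over another field -/
theorem quadFormMinus_map {F F' : Type*} [Field F] [Field F'] (σ : F ≃+* F') (m : ℕ) (a b : F)
    (v : (Fin m ⊕ Fin m) ⊕ Fin 2 → F) :
    quadFormMinus m F' (σ a) (σ b) (σ ∘ v) = σ (quadFormMinus m F a b v) := by
  simp [quadFormMinus, map_add, map_sum, map_mul, map_pow]

/-- **A1.** `Alt 12 ≤ Ω₁₀⁻(2)` -/
theorem ominus_alt : Sub.{u} (.ominus 5 2) (.alt 12) := by
  rintro X _ ⟨F, _, _, a, b, hF, hab, ⟨e⟩⟩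
  have : Fact (Nat.Prime 2) := ⟨Nat.prime_two⟩
  let σ : ZMod 2 ≃+* F := ZMod.ringEquivOfPrime F Nat.prime_two hF
  have h2 : (2 : F) = 0 := by
    have h3 : σ 2 = 0 := by rw [show (2 : ZMod 2) = 0 from rfl, map_zero]
    rwa [map_ofNat] at h3
  have h01 : ∀ x : F, x = 0 ∨ x = 1 := by
    intro x
    obtain ⟨y, rfl⟩ := σ.surjective x
    fin_cases y
    · left; exact map_zero σ
    · right; exact map_one σ
  have ha : a = 1 := (h01 a).resolve_left fun h => by
    subst h
    rcases h01 b with rfl | rfl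
    · have := hab 0 1 (by ring)
      exact one_ne_zero this.2
    · have := hab 1 1 (by linear_combination h2)
      exact one_ne_zero this.2
  have hb : b = 1 := (h01 b).resolve_left fun h => by
    subst h
    have := hab 0 1 (by ring)
    exact one_ne_zero this.2
  subst ha hb
  obtain ⟨φ, hφ⟩ := (Cfsg.Agent.S2563.result 2 (by norm_num)).2 (by decide)
  obtain ⟨g, hg, hgφ⟩ := exists_alt (m := 4 * 2 + 4) (by norm_num) φ hφ
  have hQ : ∀ v, quadFormMinus 4 F 1 1 (σ ∘ v) = σ (quadFormMinus 4 (ZMod 2) 1 1 v) := by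
    intro v
    have := quadFormMinus_map σ 4 1 1 v
    rwa [map_one] at this
  obtain ⟨e2⟩ := Cfsg.Agent.UGT.U2.Rec.Congr.nonempty_POmega σ hQ
  let p : ↥(alternatingGroup (Fin 12)) →* POmega (ZMod 2) (quadFormMinus 4 (ZMod 2) 1 1) :=
    (QuotientGroup.mk' (Subgroup.center (Omega (ZMod 2) (quadFormMinus 4 (ZMod 2) 1 1)))).comp g
  have hp : Function.Injective p := by
    have h5 : 5 ≤ Nat.card (Fin 12) := by rw [Nat.card_fin]; norm_num
    have hs : IsSimpleGroup ↥(alternatingGroup (Fin 12)) := alternatingGroup.isSimpleGroup h5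
    rw [← MonoidHom.ker_eq_bot_iff]
    refine (hs.eq_bot_or_eq_top_of_normal p.ker inferInstance).resolve_right fun htop => ?_
    have h6 : ∀ x : ↥(alternatingGroup (Fin 12)), g x ∈ Subgroup.center (Omega (ZMod 2) (quadFormMinus 4 (ZMod 2) 1 1)) := by
      intro x
      have h7 : x ∈ p.ker := by rw [htop]; exact mem_top x
      exact (QuotientGroup.eq_one_iff _).1 h7
    have h7 : commutator ↥(alternatingGroup (Fin 12)) = ⊥ := by
      rw [commutator_def, Subgroup.commutator_eq_bot_iff_le_centralizer]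
      intro x _ y _
      apply hg
      rw [map_mul, map_mul]
      exact Subgroup.mem_center_iff.1 (h6 x) (g y)
    rw [commutator_alternatingGroup_eq_top h5] at h7
    exact top_ne_bot h7
  let f : ↥(alternatingGroup (Fin 12)) →* X := e.symm.toMonoidHom.comp (e2.toMonoidHom.comp p)
  have hf : Function.Injective f := e.symm.injective.comp (e2.injective.comp hp)
  exact ⟨f.range, ⟨(MonoidHom.ofInjective hf).symm⟩⟩

/-- **B1.** -/
theorem inE {K : Type u} [Field K] [Fintype K] (hK : Fintype.card K = 4) :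
    InE K .fi22 ∧ InE K (.oodd 3 3) ∧ InE K (.f4 2) := by
  refine ⟨?_, ?_, ?_⟩
  · obtain ⟨H, h, -⟩ := Cfsg.Agent.S5742.result hK
    exact ⟨H 0, h 0⟩
  · obtain ⟨H, h, -⟩ := Cfsg.Agent.S5744.result hK
    obtain ⟨e⟩ := h 0
    obtain ⟨e2⟩ := Cfsg.Agent.S5744.exists_equiv
    exact ⟨H 0, ZMod 3, inferInstance, inferInstance, ZMod.card 3, ⟨e.trans e2.symm⟩⟩
  · obtain ⟨H, h, -⟩ := Cfsg.Agent.S5743.result hK
    exact ⟨H 0, ZMod 2, inferInstance, inferInstance, ZMod.card 2, h 0⟩

end Cfsg.Agent.H951.TS.A1
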