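import Cfsg.Agent.H944.TS.Iface
import Cfsg.Agent.H904.Ord65
import Cfsg.Agent.H375.LThree.Spec
import Cfsg.Agent.H129.CycRow
import Cfsg.Agent.S2227
import Cfsg.Agent.ClassicalGeometry.PSLTorus

/-!
# Element orders of `²E₆(2)`: no elements of order 25, 65, 85, 91 (S5741, task N1; helper951)
-/

set_option autoImplicit false

namespace Cfsg.Agent.H951.TS.N1

open Cfsg Cfsg.Lie Subgroup Matrix

universe u

/-! ### `5`-elements -/

set_option linter.unusedSectionVars false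

section Five

variable {G : Type*} [Group G] [Finite G]
  (h2 : ∀ x : G, orderOf x = 5 →
      Nonempty (↥(centralizer ({x} : Set G)) ≃* (Multiplicative (ZMod 5) × ↥(alternatingGroup (Fin 8)))))

include h2

theorem card_A8 : Nat.card ↥(alternatingGroup (Fin 8)) = 20160 := by
  rw [nat_card_alternatingGroup, Nat.card_fin]
  decide

theorem card_cent {x : G} (hx : orderOf x = 5) : Nat.card ↥(centralizer ({x} : Set G)) = 100800 := by
  obtain ⟨e⟩ := h2 x hx
  rw [Nat.card_congr e.toEquiv, Nat.card_prod, Nat.card_congr Multiplicative.toAdd, Nat.card_zmod, card_A8 h2]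

theorem mem_cent_pow (y : G) (k : ℕ) : y ∈ centralizer ({y ^ k} : Set G) := by
  rw [mem_centralizer_singleton_iff]
  exact ((Commute.refl y).pow_right k).eq

theorem orderOf_pow_div {y : G} {m n : ℕ} (hy : orderOf y = m * n) (hm : m ≠ 0) : orderOf (y ^ m) = n := by
  rw [orderOf_pow' y hm, hy, Nat.gcd_mul_right_left, Nat.mul_div_cancel_left _ (Nat.pos_of_ne_zero hm)]

theorem ne_mul {m : ℕ} (hm : ¬ m ∣ 100800) (hm0 : m ≠ 0) (y : G) : orderOf y ≠ m * 5 := by
  intro hy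
  have h3 := card_cent h2 (orderOf_pow_div h2 hy hm0)
  have h4 : orderOf (⟨y, mem_cent_pow h2 y m⟩ : ↥(centralizer ({y ^ m} : Set G))) ∣
      Nat.card ↥(centralizer ({y ^ m} : Set G)) := orderOf_dvd_natCard _
  rw [Subgroup.orderOf_mk, hy, h3] at h4
  exact hm ((dvd_mul_right m 5).trans h4)

theorem ne_twentyfive (y : G) : orderOf y ≠ 25 := by
  intro hy
  have h3 : orderOf (y ^ 5) = 5 := orderOf_pow_div h2 (m := 5) (n := 5) (by rw [hy]) (by norm_num)
  obtain ⟨e⟩ := h2 _ h3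
  let w : ↥(centralizer ({y ^ 5} : Set G)) := ⟨y, mem_cent_pow h2 y 5⟩
  have hw : orderOf w = 25 := by rw [Subgroup.orderOf_mk, hy]
  have hw2 : orderOf (e w) = 25 := by rw [MulEquiv.orderOf_eq, hw]
  have hw3 : (e w) ^ 25 = 1 := by rw [← hw2]; exact pow_orderOf_eq_one _
  have hb : (e w).2 ^ 25 = 1 := congrArg Prod.snd hw3
  have hb2 : orderOf (e w).2 ∣ 5 := by
    have h5 : orderOf (e w).2 ∣ Nat.gcd 25 20160 :=
      Nat.dvd_gcd (orderOf_dvd_of_pow_eq_one hb) (by rw [← card_A8 h2]; exact orderOf_dvd_natCard _)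
    simpa using h5
  have h5 : (e w) ^ 5 = 1 := by
    refine Prod.ext ?_ ?_
    · have := pow_card_eq_one' (G := Multiplicative (ZMod 5)) (x := (e w).1)
      rw [Nat.card_congr Multiplicative.toAdd, Nat.card_zmod] at this
      exact this
    · exact orderOf_dvd_iff_pow_eq_one.1 hb2
  have h6 := orderOf_dvd_of_pow_eq_one h5
  rw [hw2] at h6
  norm_num at h6

end Five

/-! ### elements of order `13` -/

open Cfsg.Agent.H129 Cfsg.Agent.H129.CycT Cfsg.Agent.H129.TorusChar Cfsg.Agent.H129.TorusTw Cfsg.Agent.H129.WData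
  Cfsg.Agent.H129.TorAct Cfsg.Agent.H129.RealT in
/-- centralizers of elements of order `13` -/
theorem card_cent_thirteen {K : Type u} [Field K] [Fintype K] (hK : Fintype.card K = 2 ^ 2) {x : ↥(twistedE6 K 2)}
    (hx : orderOf x = 13) : Nat.card ↥(centralizer ({x} : Set ↥(twistedE6 K 2))) ∣ 39 := by
  have hr : Nat.Prime 13 := by norm_num
  have hN : ((13 : ℕ) : ℤ) = 1 - ((2 : ℕ) : ℤ) ^ 2 + ((2 : ℕ) : ℤ) ^ 4 := by norm_num
  have hM : ((39 : ℕ) : ℤ) = 1 - ((2 : ℕ) : ℤ) + ((2 : ℕ) : ℤ) ^ 3 - ((2 : ℕ) : ℤ) ^ 5 + ((2 : ℕ) : ℤ) ^ 6 := by norm_num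
  obtain ⟨T, h1, h2, h4, h5, -⟩ := TwT.flip_T (Nat.prime_two.isPrimePow) hK DataTE6c.hA DataTE6c.chainOK DataTE6c.hd_pi
    DataTE6c.cycOK DataTE6c.rootOK DataTE6c.chain2OK DataTE6c.hd2_eq (N := 39) (by rw [DataTE6c.fN_eq, hM])
    (by norm_num)
  have h13 : 13 ∣ Nat.card ↥T := dvd_of_dvd_mul hr (by norm_num) (not_dvd_gcd3 hr (by norm_num)) h4
  have hcent := h5 13 hr (not_dvd_W_E6 hr (by norm_num) (by norm_num) (by norm_num)) fun s hs => by
    rcases DataTE6c.dvd_of_G (cast_dvd hN dvd_rfl) s hs with h | h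
    · exact not_one hr h
    · exact not_prime hr Nat.prime_two (by norm_num) h
  obtain ⟨f, hf⟩ := exists_hom h1 hr h13 hcent hx
  rw [Nat.card_congr (Equiv.ofBijective f hf)]
  exact h2

/-! ### the excluded orders -/

section

variable {K : Type u} [Field K] [Fintype K] (hK : Fintype.card K = 4)

include hK

theorem ne_25 (y : ↥(twistedE6 K 2)) : orderOf y ≠ 25 := ne_twentyfive (Cfsg.Agent.S2227.result hK).2 y

theorem ne_65 (y : ↥(twistedE6 K 2)) : orderOf y ≠ 65 := ne_mul (Cfsg.Agent.S2227.result hK).2 (m := 13) (by norm_num) (by norm_num) y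

theorem ne_85 (y : ↥(twistedE6 K 2)) : orderOf y ≠ 85 := ne_mul (Cfsg.Agent.S2227.result hK).2 (m := 17) (by norm_num) (by norm_num) y

theorem ne_91 (y : ↥(twistedE6 K 2)) : orderOf y ≠ 91 := by
  intro hy
  have h3 : orderOf (y ^ 7) = 13 := by
    rw [orderOf_pow' y (by norm_num), hy]
    norm_num
  have h4 := card_cent_thirteen (by rw [hK]; norm_num) h3
  have h5 : orderOf (⟨y, by
      rw [mem_centralizer_singleton_iff]
      exact ((Commute.refl y).pow_right 7).eq⟩ : ↥(centralizer ({y ^ 7} : Set ↥(twistedE6 K 2)))) ∣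
      Nat.card ↥(centralizer ({y ^ 7} : Set ↥(twistedE6 K 2))) := orderOf_dvd_natCard _
  rw [Subgroup.orderOf_mk, hy] at h5
  have := h5.trans h4
  norm_num at this

end

/-! ### the groups -/

/-- a group of `2E6(2)` -/
theorem notE {K : Type u} [Field K] [Fintype K] {n : ℕ} (h : ∀ y : ↥(twistedE6 K 2), orderOf y ≠ n)
    (L : Subgroup ↥(twistedE6 K 2)) {X : Type*} [Group X] (e : ↥L ≃* X) (hX : ∃ x : X, orderOf x = n) : False := by
  obtain ⟨x, hx⟩ := hX
  apply h ((e.symm x : ↥L) : ↥(twistedE6 K 2))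
  rw [Subgroup.orderOf_coe, MulEquiv.orderOf_eq, hx]

theorem exists_25 {F : Type*} [Field F] [Fintype F] (hF : Fintype.card F = 49) :
    ∃ x : ProjectiveSpecialLinearGroup (Fin 2) F, orderOf x = 25 := by
  obtain ⟨C, -, -, -, hC, hc, -⟩ := ClassicalGeometry.PSLTorus.exists_psl_torus F
  obtain ⟨x, hx⟩ := hC.exists_generator
  refine ⟨x.1, ?_⟩
  have h1 : orderOf x = Nat.card C := orderOf_eq_card_of_forall_mem_zpowers hx
  rw [Subgroup.orderOf_coe, h1, hc, hF]
  norm_num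

theorem exists_91a {F : Type*} [Field F] [Fintype F] (hF : Fintype.card F = 9) :
    ∃ x : ProjectiveSpecialLinearGroup (Fin 3) F, orderOf x = 91 := by
  obtain ⟨x, hx⟩ := Cfsg.Agent.H375.LThree.exists_order_nn (F := F)
  refine ⟨x, ?_⟩
  rw [hx, hF]
  decide

theorem exists_91b {F : Type*} [Field F] [Fintype F] (hF : Fintype.card F = 16) :
    ∃ x : ProjectiveSpecialLinearGroup (Fin 3) F, orderOf x = 91 := by
  obtain ⟨x, hx⟩ := Cfsg.Agent.H375.LThree.exists_order_nn (F := F)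
  refine ⟨x, ?_⟩
  rw [hx, hF]
  decide

/-- `L₄(4)` has an element of order 85. -/
theorem exists_85 {F : Type*} [Field F] [Fintype F] (hF : Fintype.card F = 4) :
    ∃ x : ProjectiveSpecialLinearGroup (Fin 4) F, orderOf x = 85 := by
  obtain ⟨K, _, _, hK, f, hf⟩ := Cfsg.Agent.LieExceptional.CyclicSylow.exists_singer F 4
  obtain ⟨y, hy⟩ := IsCyclic.exists_generator (α := Kˣ)
  have hB : orderOf (f y) = 255 := by
    rw [orderOf_injective f hf, orderOf_eq_card_of_forall_mem_zpowers hy, Nat.card_units, hK,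
      Nat.card_eq_fintype_card, hF]
    norm_num
  generalize f y = B at hB
  have hdet : ((B ^ 3 : GL (Fin 4) F) : Matrix (Fin 4) (Fin 4) F).det = 1 := by
    rw [Units.val_pow_eq_pow_val, det_pow]
    have h3 : (3 : ℕ) = Fintype.card F - 1 := by rw [hF]
    rw [h3]
    exact FiniteField.pow_card_sub_one_eq_one _ (Matrix.isUnits_det_units B).ne_zero
  let A : Matrix.SpecialLinearGroup (Fin 4) F := ⟨_, hdet⟩
  have hBk : ∀ k : ℕ, ((A ^ k : Matrix.SpecialLinearGroup (Fin 4) F) : Matrix (Fin 4) (Fin 4) F) =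
      (((B ^ 3) ^ k : GL (Fin 4) F) : Matrix (Fin 4) (Fin 4) F) := by
    intro k
    rw [Matrix.SpecialLinearGroup.coe_pow, Units.val_pow_eq_pow_val]
  have hB3 : orderOf (B ^ 3) = 85 := by
    rw [orderOf_pow' B (by norm_num), hB]
    norm_num
  refine ⟨QuotientGroup.mk A, Nat.dvd_antisymm (orderOf_dvd_of_pow_eq_one ?_) ?_⟩
  · rw [← QuotientGroup.mk_pow, QuotientGroup.eq_one_iff]
    have : A ^ 85 = 1 := by
      apply Subtype.ext
      have h1 : (B ^ 3) ^ 85 = 1 := by rw [← hB3]; exact pow_orderOf_eq_one _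
      have h2 := hBk 85
      rw [h1] at h2
      exact h2
    rw [this]
    exact one_mem _
  · generalize hk : orderOf (QuotientGroup.mk A : ProjectiveSpecialLinearGroup (Fin 4) F) = k
    have h1 : A ^ k ∈ Subgroup.center (Matrix.SpecialLinearGroup (Fin 4) F) := by
      rw [← QuotientGroup.eq_one_iff, QuotientGroup.mk_pow, ← hk]
      exact pow_orderOf_eq_one _
    obtain ⟨r, hr4, hr⟩ := Matrix.SpecialLinearGroup.mem_center_iff.1 h1
    have hr0 : r ≠ 0 := by
      rintro rfl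
      simp at hr4
    have hr3 : r ^ 3 = 1 := by
      have h3 : (3 : ℕ) = Fintype.card F - 1 := by rw [hF]
      rw [h3]
      exact FiniteField.pow_card_sub_one_eq_one r hr0
    have hr1 : r = 1 := by
      have h4 : r ^ 4 = 1 := by simpa using hr4
      calc r = r ^ 4 * (r ^ 3)⁻¹ := by field_simp
        _ = 1 := by rw [h4, hr3]; simp
    rw [← hB3]
    apply orderOf_dvd_of_pow_eq_one
    apply Units.ext
    rw [← hBk, ← hr, hr1]
    simp

/-- **N1.** -/
theorem main {K : Type u} [Field K] [Fintype K] (hK : Fintype.card K = 4) :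
    H944.TS.NotE K (.psl 2 49) ∧ H944.TS.NotE K (.psl 2 64) ∧ H944.TS.NotE K (.psp 2 8) ∧ H944.TS.NotE K (.psu 4 8) ∧
      H944.TS.NotE K (.psl 4 4) ∧ H944.TS.NotE K (.psl 3 9) ∧ H944.TS.NotE K (.psl 3 16) := by
  refine ⟨?_, ?_, ?_, ?_, ?_, ?_, ?_⟩
  · rintro L ⟨F, _, _, hF, ⟨e⟩⟩
    exact notE (ne_25 hK) L e (exists_25 hF)
  · rintro L ⟨F, _, _, hF, ⟨e⟩⟩
    exact notE (ne_65 hK) L e (Cfsg.Agent.H904.Ord65.exists_psl_two hF)
  · rintro L ⟨F, _, _, hF, ⟨e⟩⟩
    exact notE (ne_65 hK) L e (Cfsg.Agent.H904.Ord65.exists_psp hF)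
  · rintro L ⟨F, _, _, hF, ⟨e⟩⟩
    have : Fintype (GaloisField 2 3) := Fintype.ofFinite _
    have hF8 : Fintype.card (GaloisField 2 3) = 8 := by
      rw [← Nat.card_eq_fintype_card, GaloisField.card 2 3 (by norm_num)]; norm_num
    exact notE (ne_65 hK) L e (Cfsg.Agent.H904.Ord65.exists_psu hF8 (by rw [hF]; norm_num))
  · rintro L ⟨F, _, _, hF, ⟨e⟩⟩
    exact notE (ne_85 hK) L e (exists_85 hF)
  · rintro L ⟨F, _, _, hF, ⟨e⟩⟩
    exact notE (ne_91 hK) L e (exists_91a hF)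
  · rintro L ⟨F, _, _, hF, ⟨e⟩⟩
    exact notE (ne_91 hK) L e (exists_91b hF)

end Cfsg.Agent.H951.TS.N1
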