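import Cfsg.Agent.H944.TS.Iface
import Cfsg.Agent.H376.SpEmb
import Cfsg.Agent.LieClassical.SympCenter

/-!
# `L₂(27) ≤ PSp₆(3)` (S5741, task N6; helper951)
-/

set_option autoImplicit false

namespace Cfsg.Agent.H951.TS.N6

open Cfsg Cfsg.Lie Subgroup Matrix Cfsg.Agent.OrdDiv Cfsg.Agent.H944.TS Cfsg.Agent.H376

universe u

section

variable {F E : Type*} [Field F] [Field E] [Algebra F E] [FiniteDimensional F E] [Algebra.IsSeparable F E]
  (b : Module.Basis (Fin 3) F E)

/-- the homomorphism to `PSp₆` -/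
noncomputable def toPSp : SpecialLinearGroup (Fin 2) E →* PSp 3 F :=
  (QuotientGroup.mk' (Subgroup.center (symplecticGroup (Fin 3) F))).comp (SpEmb.ofSLTwo b)

theorem ofSLTwo_scalar {A : SpecialLinearGroup (Fin 2) E} {r : E} (hA : scalar (Fin 2) r = A.1) (c : F)
    (hr : r = algebraMap F E c) : (SpEmb.ofSLTwo b A).1 = c • 1 := by
  have h00 : A.1 0 0 = r := by rw [← hA]; simp
  have h01 : A.1 0 1 = 0 := by rw [← hA]; simp
  have h10 : A.1 1 0 = 0 := by rw [← hA]; simp
  have h11 : A.1 1 1 = r := by rw [← hA]; simp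
  have hL : Algebra.leftMulMatrix b r = c • (1 : Matrix (Fin 3) (Fin 3) F) := by
    rw [hr, Algebra.algebraMap_eq_smul_one, map_smul, map_one]
  show fromBlocks (Algebra.leftMulMatrix b (A.1 0 0)) (Algebra.leftMulMatrix b (A.1 0 1) * (Algebra.traceMatrix F b)⁻¹)
    (Algebra.traceMatrix F b * Algebra.leftMulMatrix b (A.1 1 0)) (Algebra.leftMulMatrix b (A.1 1 1))ᵀ = c • 1
  rw [h00, h01, h10, h11, hL, map_zero, zero_mul, mul_zero, transpose_smul, transpose_one, ← fromBlocks_one,
    fromBlocks_smul, smul_zero]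

theorem ker_toPSp : (toPSp b).ker = Subgroup.center (SpecialLinearGroup (Fin 2) E) := by
  ext A
  have h1 : A ∈ (toPSp b).ker ↔ SpEmb.ofSLTwo b A ∈ Subgroup.center (symplecticGroup (Fin 3) F) :=
    QuotientGroup.eq_one_iff _
  rw [h1]
  constructor
  · intro h
    rw [Subgroup.mem_center_iff]
    intro B
    apply SpEmb.ofSLTwo_injective b
    rw [map_mul, map_mul, Subgroup.mem_center_iff.1 h]
  · intro h
    obtain ⟨r, hr, hA⟩ := Matrix.SpecialLinearGroup.mem_center_iff.1 h
    have h2 : r ^ 2 = 1 := by simpa using hr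
    rw [LieClassical.SympCenter.mem_center_iff]
    rcases sq_eq_one_iff.1 h2 with rfl | rfl
    · exact ⟨1, ofSLTwo_scalar b hA 1 (map_one _).symm⟩
    · exact ⟨-1, ofSLTwo_scalar b hA (-1) (by rw [map_neg, map_one])⟩

theorem exists_range : Nonempty (↥(toPSp b).range ≃* ProjectiveSpecialLinearGroup (Fin 2) E) :=
  ⟨(QuotientGroup.quotientKerEquivRange (toPSp b)).symm.trans (QuotientGroup.quotientMulEquivOfEq (ker_toPSp b))⟩

end

/-- **`L₂(27) ≤ PSp₆(3)`.** -/
theorem psp_psl : Sub.{u} (.psp 3 3) (.psl 2 27) := by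
  rintro X _ ⟨F, _, _, hF, ⟨e⟩⟩
  obtain ⟨p, hp⟩ := CharP.exists F
  have : Fact p.Prime := ⟨CharP.char_is_prime F p⟩
  let b := Module.finBasisOfFinrankEq F (FiniteField.Extension F p 3) (FiniteField.finrank_extension F p 3)
  obtain ⟨e2⟩ := exists_range b
  have : Fintype (FiniteField.Extension F p 3) := Fintype.ofFinite _
  refine ⟨(toPSp b).range.comap e.toMonoidHom, FiniteField.Extension F p 3, inferInstance, this, ?_, ⟨?_⟩⟩
  · rw [← Nat.card_eq_fintype_card, FiniteField.natCard_extension F p 3, Nat.card_eq_fintype_card, hF]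
    norm_num
  · exact (e.subgroupMap _).trans ((MulEquiv.subgroupCongr (Subgroup.map_comap_eq_self_of_surjective e.surjective _)).trans e2)

end Cfsg.Agent.H951.TS.N6
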